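import Groth.Agent.L27.PiGen.Basic
import Mathlib.AlgebraicGeometry.Morphisms.Proper

/-! Topological generators along a proper surjective morphism. -/

set_option autoImplicit false
set_option linter.style.haveILetI false
set_option backward.isDefEq.respectTransparency.types false

universe u

open CategoryTheory CategoryTheory.Limits AlgebraicGeometry TopologicalSpace

noncomputable section

namespace Groth.L27.PiGen

open Groth.L27.FEtGal

/-- Noetherian spaces have finitely many connected components -/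
theorem finite_connectedComponents {α : Type u} [TopologicalSpace α] [NoetherianSpace α] :
    Finite (ConnectedComponents α) := by
  haveI : Finite (irreducibleComponents α) := NoetherianSpace.finite_irreducibleComponents.to_subtype
  refine Finite.of_surjective (fun C : irreducibleComponents α => ConnectedComponents.mk C.2.1.nonempty.some) fun c => ?_
  obtain ⟨x, rfl⟩ := ConnectedComponents.surjective_coe c
  refine ⟨⟨irreducibleComponent x, irreducibleComponent_mem_irreducibleComponents x⟩, ConnectedComponents.coe_eq_coe'.2 ?_⟩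
  exact isIrreducible_irreducibleComponent.isConnected.subset_connectedComponent mem_irreducibleComponent
    (Set.Nonempty.some_mem _)

theorem hom_inv_apply {A : Type*} [Category A] {F G : A ⥤ Type u} (e : F ≅ G) (Y : A) (x : F.obj Y) :
    e.inv.app Y (e.hom.app Y x) = x :=
  ConcreteCategory.congr_hom (e.hom_inv_id_app Y) x

theorem inv_hom_apply {A : Type*} [Category A] {F G : A ⥤ Type u} (e : F ≅ G) (Y : A) (x : G.obj Y) :
    e.hom.app Y (e.inv.app Y x) = x :=
  ConcreteCategory.congr_hom (e.inv_hom_id_app Y) x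

/-- points of a base change over a point -/
theorem restrict_app_val {X Y : Scheme.{u}} (f : X ⟶ Y) {Ω : Type u} [Field Ω]
    (ξ : Spec (CommRingCat.of Ω) ⟶ X) (V : FEt.Cat Y) (s : FEt.fiberObj (ξ ≫ f) V) :
    ((fiberRestrictIso ξ f).inv.app V s : FEt.fiberObj ξ ((FEt.restrict f).obj V)).1 ≫ pullback.fst V.hom f = s.1 :=
  pullback.lift_fst _ _ _

/-- the transport between fibres of the base induced by a transport upstairs -/
def pushIso {X Y : Scheme.{u}} (f : X ⟶ Y) {Ω Ω' : Type u} [Field Ω] [Field Ω']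
    {ξ : Spec (CommRingCat.of Ω) ⟶ X} {ξ' : Spec (CommRingCat.of Ω') ⟶ X} (τ : FEt.fiber ξ ≅ FEt.fiber ξ') :
    FEt.fiber (ξ ≫ f) ≅ FEt.fiber (ξ' ≫ f) :=
  (fiberRestrictIso ξ f).symm ≪≫ Functor.isoWhiskerLeft (FEt.restrict f) τ ≪≫ fiberRestrictIso ξ' f

/-- the inclusion of the part over an open -/
abbrev chart {Yl S S' : Scheme.{u}} (hY : Yl ⟶ S) (g : S' ⟶ S) (C : S'.Opens) :
    pullback hY (C.ι ≫ g) ⟶ pullback hY g :=
  pullback.map hY (C.ι ≫ g) hY g (𝟙 _) C.ι (𝟙 _) (by simp) (by simp)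

theorem chart_fst {Yl S S' : Scheme.{u}} (hY : Yl ⟶ S) (g : S' ⟶ S) (C : S'.Opens) :
    chart hY g C ≫ pullback.fst hY g = pullback.fst hY (C.ι ≫ g) :=
  (pullback.lift_fst _ _ _).trans (Category.comp_id _)

theorem chart_snd {Yl S S' : Scheme.{u}} (hY : Yl ⟶ S) (g : S' ⟶ S) (C : S'.Opens) :
    chart hY g C ≫ pullback.snd hY g = pullback.snd hY (C.ι ≫ g) ≫ C.ι :=
  pullback.lift_snd _ _ _

theorem isPullback_chart {Yl S S' : Scheme.{u}} (hY : Yl ⟶ S) (g : S' ⟶ S) (C : S'.Opens) :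
    IsPullback (pullback.snd hY (C.ι ≫ g)) (chart hY g C) C.ι (pullback.snd hY g) :=
  IsPullback.of_bot (show IsPullback (pullback.snd hY (C.ι ≫ g)) (chart hY g C ≫ pullback.fst hY g) (C.ι ≫ g) hY by
      rw [chart_fst]; exact (IsPullback.of_hasPullback hY (C.ι ≫ g)).flip)
    (chart_snd hY g C).symm (IsPullback.of_hasPullback hY g).flip

/-- clopens on the parts over clopens forming a partition glue -/
theorem exists_glued {Yl S S' : Scheme.{u}} (hY : Yl ⟶ S) (g : S' ⟶ S) {I : Type*} [Finite I] (C : I → S'.Opens)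
    (hC : ∀ i, IsClosed (C i : Set S')) (hdisj : ∀ i j x, x ∈ C i → x ∈ C j → i = j)
    (D : ∀ i, Set ↥(pullback hY ((C i).ι ≫ g))) (hD : ∀ i, IsClopen (D i)) :
    ∃ E : Set ↥(pullback hY g), IsClopen E ∧ ∀ i z, chart hY g (C i) z ∈ E ↔ z ∈ D i := by
  haveI : ∀ i, IsClosedImmersion (C i).ι := fun i => IsClosedImmersion.of_isPreimmersion (C i).ι (by
    rw [Scheme.Opens.range_ι]; exact hC i)
  haveI : ∀ i, IsOpenImmersion (chart hY g (C i)) := fun i =>
    MorphismProperty.of_isPullback (P := @IsOpenImmersion) (isPullback_chart hY g (C i)) inferInstance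
  haveI : ∀ i, IsClosedImmersion (chart hY g (C i)) := fun i =>
    MorphismProperty.of_isPullback (P := @IsClosedImmersion) (isPullback_chart hY g (C i)) inferInstance
  refine ⟨⋃ i, chart hY g (C i) '' D i, isClopen_iUnion_of_finite fun i =>
    ⟨(chart hY g (C i)).isClosedEmbedding.isClosedMap _ (hD i).1,
      (chart hY g (C i)).isOpenEmbedding.isOpenMap _ (hD i).2⟩, fun i z => ⟨fun h => ?_, fun h => Set.mem_iUnion.2 ⟨i, z, h, rfl⟩⟩⟩
  obtain ⟨j, w, hw, hwz⟩ := Set.mem_iUnion.1 h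
  obtain rfl : j = i := by
    have h1 : ∀ (k : I) (v : ↥(pullback hY ((C k).ι ≫ g))), pullback.snd hY g (chart hY g (C k) v) ∈ C k := fun k v => by
      rw [← Scheme.Hom.comp_apply, chart_snd, Scheme.Hom.comp_apply]
      exact (pullback.snd hY ((C k).ι ≫ g) v).2
    exact hdisj j i _ (h1 j w) (hwz ▸ h1 i z)
  exact (chart hY g (C j)).isOpenEmbedding.injective hwz ▸ hw

/-- the fibre condition on a clopen over an open -/
def Fib {S S' : Scheme.{u}} (g : S' ⟶ S) {Ω : Type u} [Field Ω] (ξ : Spec (CommRingCat.of Ω) ⟶ S) (C : S'.Opens)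
    (P : ∀ {Ω₁ : Type u} [Field Ω₁] [IsAlgClosed Ω₁] (d : Spec (CommRingCat.of Ω₁) ⟶ C.toScheme),
      FEt.fiber (d ≫ C.ι ≫ g) ≅ FEt.fiber ξ)
    (Y : FEt.Cat S) (O : Set (FEt.fiberObj ξ Y)) (D : Set ↥(pullback Y.hom (C.ι ≫ g))) : Prop :=
  ∀ (Ω₁ : Type u) [Field Ω₁] [IsAlgClosed Ω₁] (d : Spec (CommRingCat.of Ω₁) ⟶ C.toScheme)
    (s : Spec (CommRingCat.of Ω₁) ⟶ Y.left) (h : s ≫ Y.hom = d ≫ C.ι ≫ g),
    pullback.lift s d h default ∈ D ↔ (P d).hom.app Y ⟨s, h⟩ ∈ O

/-- the generators coming from one component -/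
theorem exists_component {S S' : Scheme.{u}} [ConnectedSpace S] (g : S' ⟶ S)
    {Ω : Type u} [Field Ω] [IsAlgClosed Ω] (ξ : Spec (CommRingCat.of Ω) ⟶ S) (C : S'.Opens)
    [IsLocallyNoetherian C.toScheme] [ConnectedSpace ↥C.toScheme]
    (hfg : ∀ (Ω : Type u) [Field Ω] [IsAlgClosed Ω] (η : Spec (CommRingCat.of Ω) ⟶ (C : Scheme.{u})),
        ∃ F : Finset (FEt.piOne (C : Scheme.{u}) η), PiSp.TopGenerates (F : Set (FEt.piOne (C : Scheme.{u}) η))) :
    ∃ (G : Set (FEt.piOne S ξ))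
      (P : ∀ {Ω₁ : Type u} [Field Ω₁] [IsAlgClosed Ω₁] (d : Spec (CommRingCat.of Ω₁) ⟶ C.toScheme),
        FEt.fiber (d ≫ C.ι ≫ g) ≅ FEt.fiber ξ),
      G.Finite ∧ ∀ (Y : FEt.Cat S) (O : Set (FEt.fiberObj ξ Y)), G ⊆ stabSub Y O →
        ∃ D, IsClopen D ∧ Fib g ξ C P Y O D := by
  classical
  obtain ⟨Ω', _, _, η, -⟩ := exists_geometric (X := C.toScheme) (Classical.arbitrary _)
  obtain ⟨F, hF⟩ := hfg Ω' η
  obtain ⟨e⟩ := nonempty_fiber_iso (η ≫ C.ι ≫ g) ξ
  refine ⟨(fun φ : FEt.piOne C.toScheme η => e.symm ≪≫ pushIso (C.ι ≫ g) φ ≪≫ e) '' (↑F : Set (FEt.piOne C.toScheme η)),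
    fun {Ω₁} _ _ d => pushIso (C.ι ≫ g) (nonempty_fiber_iso d η).some ≪≫ e,
    Set.Finite.image _ F.finite_toSet, fun Y O hG => ?_⟩
  let O' : Set (FEt.fiberObj η ((FEt.restrict (C.ι ≫ g)).obj Y)) :=
    {t | e.hom.app Y ((fiberRestrictIso η (C.ι ≫ g)).hom.app Y t) ∈ O}
  obtain ⟨D, hD, h⟩ := exists_clopen_of_stable η ((FEt.restrict (C.ι ≫ g)).obj Y) O' fun φ =>
    mem_stabSub_of_topGenerates hF _ O' (fun φ hφ t => by
      have := hG ⟨φ, hφ, rfl⟩ (e.hom.app Y ((fiberRestrictIso η (C.ι ≫ g)).hom.app Y t))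
      refine Iff.trans (Iff.of_eq (congrArg (· ∈ O) ?_)) this
      show _ = e.hom.app Y ((fiberRestrictIso η (C.ι ≫ g)).hom.app Y (φ.hom.app _
        ((fiberRestrictIso η (C.ι ≫ g)).inv.app Y (e.inv.app Y
          (e.hom.app Y ((fiberRestrictIso η (C.ι ≫ g)).hom.app Y t))))))
      rw [hom_inv_apply e, hom_inv_apply (fiberRestrictIso η (C.ι ≫ g))]) φ
  refine ⟨D, hD, fun Ω₁ _ _ d s hs => ?_⟩
  let t : FEt.fiberObj d ((FEt.restrict (C.ι ≫ g)).obj Y) := ⟨pullback.lift s d hs, pullback.lift_snd _ _ _⟩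
  have ht : (fiberRestrictIso d (C.ι ≫ g)).inv.app Y (⟨s, hs⟩ : FEt.fiberObj (d ≫ C.ι ≫ g) Y) = t := rfl
  refine ((nat_mem_iff (nonempty_fiber_iso d η).some.hom _ hD t).symm.trans (h _)).trans (Iff.of_eq (congrArg (· ∈ O) ?_))
  show _ = e.hom.app Y ((fiberRestrictIso η (C.ι ≫ g)).hom.app Y ((nonempty_fiber_iso d η).some.hom.app _
    ((fiberRestrictIso d (C.ι ≫ g)).inv.app Y (⟨s, hs⟩ : FEt.fiberObj (d ≫ C.ι ≫ g) Y))))
  rw [ht]

/-- the loop of a component of the double product -/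
theorem exists_loop {S S' : Scheme.{u}} (g : S' ⟶ S) {Ω : Type u} [Field Ω] (ξ : Spec (CommRingCat.of Ω) ⟶ S)
    (C1 C2 : S'.Opens)
    (P1 : ∀ {Ω₁ : Type u} [Field Ω₁] [IsAlgClosed Ω₁] (d : Spec (CommRingCat.of Ω₁) ⟶ C1.toScheme),
      FEt.fiber (d ≫ C1.ι ≫ g) ≅ FEt.fiber ξ)
    (P2 : ∀ {Ω₁ : Type u} [Field Ω₁] [IsAlgClosed Ω₁] (d : Spec (CommRingCat.of Ω₁) ⟶ C2.toScheme),
      FEt.fiber (d ≫ C2.ι ≫ g) ≅ FEt.fiber ξ)
    (x : ↥(pullback g g)) (h1 : pullback.fst g g x ∈ C1) (h2 : pullback.snd g g x ∈ C2) :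
    ∃ γ : FEt.piOne S ξ, ∀ (Y : FEt.Cat S) (O : Set (FEt.fiberObj ξ Y)) (D1 : Set ↥(pullback Y.hom (C1.ι ≫ g)))
      (D2 : Set ↥(pullback Y.hom (C2.ι ≫ g))) (E : Set ↥(pullback Y.hom g)),
      (∀ z, chart Y.hom g C1 z ∈ E ↔ z ∈ D1) → (∀ z, chart Y.hom g C2 z ∈ E ↔ z ∈ D2) →
      Fib g ξ C1 P1 Y O D1 → Fib g ξ C2 P2 Y O D2 → γ ∈ stabSub Y O →
      ∀ (a b : pullback Y.hom (pullback.fst g g ≫ g) ⟶ pullback Y.hom g),
        a ≫ pullback.fst _ _ = pullback.fst _ _ → a ≫ pullback.snd _ _ = pullback.snd _ _ ≫ pullback.fst g g →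
        b ≫ pullback.fst _ _ = pullback.fst _ _ → b ≫ pullback.snd _ _ = pullback.snd _ _ ≫ pullback.snd g g →
        ∀ w, pullback.snd Y.hom (pullback.fst g g ≫ g) w = x → (a w ∈ E ↔ b w ∈ E) := by
  obtain ⟨Ω₁, _, _, δ, rfl⟩ := exists_geometric x
  have hr1 : Set.range (δ ≫ pullback.fst g g) ⊆ Set.range C1.ι := by
    rintro _ ⟨z, rfl⟩
    rw [Scheme.Opens.range_ι, Subsingleton.elim z default, Scheme.Hom.comp_apply]; exact h1
  have hr2 : Set.range (δ ≫ pullback.snd g g) ⊆ Set.range C2.ι := by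
    rintro _ ⟨z, rfl⟩
    rw [Scheme.Opens.range_ι, Subsingleton.elim z default, Scheme.Hom.comp_apply]; exact h2
  obtain ⟨d1, hd1⟩ : ∃ d1 : Spec (CommRingCat.of Ω₁) ⟶ C1.toScheme, d1 ≫ C1.ι = δ ≫ pullback.fst g g :=
    ⟨_, IsOpenImmersion.lift_fac _ _ hr1⟩
  obtain ⟨d2, hd2⟩ : ∃ d2 : Spec (CommRingCat.of Ω₁) ⟶ C2.toScheme, d2 ≫ C2.ι = δ ≫ pullback.snd g g :=
    ⟨_, IsOpenImmersion.lift_fac _ _ hr2⟩
  have hq1 : d1 ≫ C1.ι ≫ g = δ ≫ pullback.fst g g ≫ g := by rw [reassoc_of% hd1]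
  have hq2 : d2 ≫ C2.ι ≫ g = δ ≫ pullback.fst g g ≫ g := by rw [reassoc_of% hd2, pullback.condition]
  refine ⟨(P1 d1).symm ≪≫ fiberCongr _ (hq1.trans hq2.symm) ≪≫ P2 d2,
    fun Y O D1 D2 E hE1 hE2 hF1 hF2 hγ a b ha1 ha2 hb1 hb2 w hw => ?_⟩
  let hY : Y.left ⟶ S := Y.hom
  haveI : IsFinite hY := Y.prop.1
  haveI : IsFinite (pullback.snd hY (pullback.fst g g ≫ g)) := inferInstance
  obtain ⟨r, hr, hrw⟩ := exists_fiber_pt (pullback.snd hY (pullback.fst g g ≫ g)) δ w hw
  have hs : (r ≫ pullback.fst hY (pullback.fst g g ≫ g)) ≫ hY = δ ≫ pullback.fst g g ≫ g := by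
    exact (Category.assoc _ _ _).trans ((congrArg (r ≫ ·) pullback.condition).trans ((Category.assoc _ _ _).symm.trans (congrArg (· ≫ pullback.fst g g ≫ g) hr)))
  have side : ∀ (C : S'.Opens) (d : Spec (CommRingCat.of Ω₁) ⟶ C.toScheme) (p : pullback g g ⟶ S')
      (hd : d ≫ C.ι = δ ≫ p) (hq : d ≫ C.ι ≫ g = δ ≫ pullback.fst g g ≫ g)
      (c : pullback hY (pullback.fst g g ≫ g) ⟶ pullback hY g) (hc1 : c ≫ pullback.fst _ _ = pullback.fst _ _)
      (hc2 : c ≫ pullback.snd _ _ = pullback.snd _ _ ≫ p),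
      c w = chart hY g C (pullback.lift (r ≫ pullback.fst hY (pullback.fst g g ≫ g)) d (hs.trans hq.symm) default) := by
    intro C d p hd hq c hc1 hc2
    have e : r ≫ c = pullback.lift (r ≫ pullback.fst hY (pullback.fst g g ≫ g)) d (hs.trans hq.symm) ≫ chart hY g C := by
      apply pullback.hom_ext
      · rw [Category.assoc, Category.assoc, hc1, chart_fst, pullback.lift_fst]
      · rw [Category.assoc, Category.assoc, hc2, chart_snd, reassoc_of% hr, pullback.lift_snd_assoc, hd]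
    exact (congrArg c hrw.symm).trans (congrArg (fun u : Spec (CommRingCat.of Ω₁) ⟶ pullback hY g => u default) e)
  have A := side C1 d1 _ hd1 hq1 a ha1 ha2
  have B := side C2 d2 _ hd2 hq2 b hb1 hb2
  refine (Iff.of_eq (congrArg (· ∈ E) A)).trans (((hE1 _).trans (hF1 Ω₁ d1 _ (hs.trans hq1.symm))).trans ?_)
  refine Iff.trans ?_ (((hE2 _).trans (hF2 Ω₁ d2 _ (hs.trans hq2.symm))).symm.trans (Iff.of_eq (congrArg (· ∈ E) B).symm))
  refine (hγ _).symm.trans (Iff.of_eq (congrArg (· ∈ O) ?_))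
  show (P2 d2).hom.app Y ((fiberCongr _ _).hom.app Y ((P1 d1).inv.app Y ((P1 d1).hom.app Y _))) = _
  rw [hom_inv_apply (P1 d1)]
  exact congrArg ((P2 d2).hom.app Y) (Subtype.ext (fiberCongr_hom_val _ _ _ _))

/-- clopens of a cover agree if they agree over one point of every component -/
theorem eq_of_points {Q T : Scheme.{u}} (p : Q ⟶ T) [IsFinite p] [Etale p] {A B : Set Q} (hA : IsClopen A)
    (hB : IsClopen B) (h : ∀ z : T, ∃ x ∈ connectedComponent z, ∀ w, p w = x → (w ∈ A ↔ w ∈ B)) : A = B := by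
  by_contra hne
  have hΔ : IsClopen ((A \ B) ∪ (B \ A)) := (hA.diff hB).union (hB.diff hA)
  obtain ⟨z, hz⟩ : ((A \ B) ∪ (B \ A)).Nonempty := by
    by_contra he
    exact hne (Set.ext fun z => ⟨fun ha => by_contra fun hb => he ⟨z, Or.inl ⟨ha, hb⟩⟩,
      fun hb => by_contra fun ha => he ⟨z, Or.inr ⟨hb, ha⟩⟩⟩)
  obtain ⟨x, hx, hxw⟩ := h (p z)
  obtain ⟨w, hw, hwx⟩ := (show IsClopen (p '' _) from ⟨p.isClosedMap _ hΔ.1, p.isOpenMap _ hΔ.2⟩).connectedComponent_subset
    ⟨z, hz, rfl⟩ hx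
  rcases hw with ⟨ha, hb⟩ | ⟨hb, ha⟩
  · exact hb ((hxw w hwx).1 ha)
  · exact ha ((hxw w hwx).2 hb)

/-- clopens compatible with the descent datum descend -/
theorem clopen_descends {Yl S S' : Scheme.{u}} (hY : Yl ⟶ S) (g : S' ⟶ S) [IsProper g] [Surjective g]
    {E : Set ↥(pullback hY g)} (hE : IsClopen E) (a b : pullback hY (pullback.fst g g ≫ g) ⟶ pullback hY g)
    (ha1 : a ≫ pullback.fst _ _ = pullback.fst _ _) (ha2 : a ≫ pullback.snd _ _ = pullback.snd _ _ ≫ pullback.fst g g)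
    (hb1 : b ≫ pullback.fst _ _ = pullback.fst _ _) (hb2 : b ≫ pullback.snd _ _ = pullback.snd _ _ ≫ pullback.snd g g)
    (hab : a ⁻¹' E = b ⁻¹' E) :
    IsClopen (pullback.fst hY g '' E) ∧ ∀ y, pullback.fst hY g y ∈ pullback.fst hY g '' E ↔ y ∈ E := by
  let π := pullback.fst hY g
  have hsat : ∀ y y' : ↥(pullback hY g), π y = π y' → y ∈ E → y' ∈ E := by
    intro y y' h hy
    obtain ⟨x, hx1, hx2⟩ := Scheme.Pullback.exists_preimage_pullback (f := π) (g := π) y y' h
    let c : pullback π π ⟶ pullback hY (pullback.fst g g ≫ g) := pullback.lift (pullback.fst π π ≫ π)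
      (pullback.lift (pullback.fst π π ≫ pullback.snd hY g) (pullback.snd π π ≫ pullback.snd hY g) (by
        simp only [Category.assoc, ← pullback.condition, π]
        exact pullback.condition_assoc hY))
      (by simp only [pullback.lift_fst_assoc, Category.assoc, π]; exact congrArg _ pullback.condition)
    have ha : c ≫ a = pullback.fst π π := by
      apply pullback.hom_ext
      · rw [Category.assoc, ha1]; exact pullback.lift_fst _ _ _
      · rw [Category.assoc, ha2, pullback.lift_snd_assoc, pullback.lift_fst]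
    have hb : c ≫ b = pullback.snd π π := by
      apply pullback.hom_ext
      · rw [Category.assoc, hb1]; exact (pullback.lift_fst _ _ _).trans pullback.condition
      · rw [Category.assoc, hb2, pullback.lift_snd_assoc, pullback.lift_snd]
    rw [← hx2, ← hb, Scheme.Hom.comp_apply]
    show c x ∈ b ⁻¹' E
    rw [← hab, Set.mem_preimage, ← Scheme.Hom.comp_apply, ha, hx1]
    exact hy
  haveI : IsProper π := inferInstance
  haveI : Surjective π := inferInstance
  refine ⟨⟨π.isClosedMap _ hE.1, ?_⟩, fun y => ⟨fun ⟨y', hy', h⟩ => hsat y' y h hy', fun h => ⟨y, h, rfl⟩⟩⟩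
  have : (π '' E)ᶜ = π '' Eᶜ := by
    ext z
    constructor
    · intro hz
      obtain ⟨y, rfl⟩ := π.surjective z
      exact ⟨y, fun hy => hz ⟨y, hy, rfl⟩, rfl⟩
    · rintro ⟨y, hy, rfl⟩ ⟨y', hy', h⟩
      exact hy (hsat y' y h hy')
  rw [← isClosed_compl_iff, this]
  exact π.isClosedMap _ hE.compl.1

/-- finitely many topological generators along a proper surjective morphism -/
theorem exists_topGenerators {S S' : Scheme.{u}} [IsNoetherian S]
    [ConnectedSpace S] (g : S' ⟶ S) [IsProper g] [Surjective g]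
    (hfg : ∀ (C : S'.Opens), IsClosed (C : Set S') → ConnectedSpace C →
      ∀ (Ω : Type u) [Field Ω] [IsAlgClosed Ω] (η : Spec (CommRingCat.of Ω) ⟶ (C : Scheme.{u})),
        ∃ F : Finset (FEt.piOne (C : Scheme.{u}) η), PiSp.TopGenerates (F : Set (FEt.piOne (C : Scheme.{u}) η)))
    {Ω : Type u} [Field Ω] [IsAlgClosed Ω] (ξ : Spec (CommRingCat.of Ω) ⟶ S) :
    ∃ F : Finset (FEt.piOne S ξ), PiSp.TopGenerates (F : Set (FEt.piOne S ξ)) := by
  classical
  haveI : IsLocallyNoetherian S' := LocallyOfFiniteType.isLocallyNoetherian g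
  haveI : CompactSpace S' := QuasiCompact.compactSpace_of_compactSpace g
  haveI : AlgebraicGeometry.IsNoetherian S' := {}
  haveI : IsLocallyNoetherian (pullback g g) := LocallyOfFiniteType.isLocallyNoetherian (pullback.fst g g)
  haveI : CompactSpace ↥(pullback g g) := QuasiCompact.compactSpace_of_compactSpace (pullback.fst g g)
  haveI : AlgebraicGeometry.IsNoetherian (pullback g g) := {}
  haveI : Finite (ConnectedComponents S') := finite_connectedComponents
  haveI : Finite (ConnectedComponents ↥(pullback g g)) := finite_connectedComponents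
  have hcomp : ∀ i : ConnectedComponents S', ∃ C : S'.Opens, IsClosed (C : Set S') ∧ ConnectedSpace C ∧
      ∀ x, x ∈ C ↔ ConnectedComponents.mk x = i := by
    intro i
    obtain ⟨x, rfl⟩ := ConnectedComponents.surjective_coe i
    exact ⟨⟨connectedComponent x, (Product.isClopen_connectedComponent _).2⟩,
      (Product.isClopen_connectedComponent _).1, isConnected_iff_connectedSpace.1 isConnected_connectedComponent,
      fun y => ⟨fun h => ConnectedComponents.coe_eq_coe'.2 h, fun h => ConnectedComponents.coe_eq_coe'.1 h⟩⟩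
  choose C hCc hCconn hCmem using hcomp
  have hgen := fun i => @exists_component S S' _ g Ω _ _ ξ (C i) inferInstance (hCconn i)
    (fun Ω _ _ η => hfg (C i) (hCc i) (hCconn i) Ω η)
  choose G P hGfin hG using hgen
  choose pt2 hpt2 using ConnectedComponents.surjective_coe (α := ↥(pullback g g))
  have hloop := fun j : ConnectedComponents ↥(pullback g g) =>
    exists_loop g ξ (C (ConnectedComponents.mk (pullback.fst g g (pt2 j))))
      (C (ConnectedComponents.mk (pullback.snd g g (pt2 j)))) (fun {Ω₁} _ _ d => P _ d) (fun {Ω₁} _ _ d => P _ d)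
      (pt2 j) ((hCmem _ _).2 rfl) ((hCmem _ _).2 rfl)
  choose γ hγ using hloop
  have hfin : ((⋃ i, G i) ∪ Set.range γ).Finite := (Set.finite_iUnion hGfin).union (Set.finite_range γ)
  refine ⟨hfin.toFinset, ?_⟩
  rw [hfin.coe_toFinset]
  refine topGenerates_of_stable _ fun Y O hO φ s => ?_
  let hY : Y.left ⟶ S := Y.hom
  haveI : IsFinite hY := Y.prop.1
  haveI : Etale hY := Y.prop.2
  choose D hDc hDF using fun i => hG i Y O ((Set.subset_iUnion G i).trans (Set.subset_union_left.trans hO))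
  obtain ⟨E, hEc, hE⟩ := exists_glued hY g C hCc
    (fun i j x hi hj => ((hCmem i x).1 hi).symm.trans ((hCmem j x).1 hj)) D hDc
  let a : pullback hY (pullback.fst g g ≫ g) ⟶ pullback hY g :=
    pullback.lift (pullback.fst _ _) (pullback.snd _ _ ≫ pullback.fst g g) (pullback.condition.trans (Category.assoc _ _ _).symm)
  let b : pullback hY (pullback.fst g g ≫ g) ⟶ pullback hY g :=
    pullback.lift (pullback.fst _ _) (pullback.snd _ _ ≫ pullback.snd g g)
      (pullback.condition.trans ((congrArg (pullback.snd _ _ ≫ ·)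
        (pullback.condition (f := g) (g := g))).trans (Category.assoc _ _ _).symm))
  have hab : a ⁻¹' E = b ⁻¹' E :=
    eq_of_points (pullback.snd hY (pullback.fst g g ≫ g)) (hEc.preimage a.continuous) (hEc.preimage b.continuous)
      fun z => ⟨pt2 (ConnectedComponents.mk z), ConnectedComponents.coe_eq_coe'.1 (hpt2 _),
        hγ _ Y O _ _ E (hE _) (hE _) (hDF _) (hDF _) (hO (Or.inr ⟨_, rfl⟩)) a b (pullback.lift_fst _ _ _)
          (pullback.lift_snd _ _ _) (pullback.lift_fst _ _ _) (pullback.lift_snd _ _ _)⟩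
  obtain ⟨hZ, hsat⟩ := clopen_descends hY g hEc a b (pullback.lift_fst _ _ _) (pullback.lift_snd _ _ _)
    (pullback.lift_fst _ _ _) (pullback.lift_snd _ _ _) hab
  have hfib : ∀ s : FEt.fiberObj ξ Y, s.1 default ∈ pullback.fst hY g '' E ↔ s ∈ O := by
    intro s
    obtain ⟨x, -⟩ := g.surjective (ξ default)
    haveI := hCconn (ConnectedComponents.mk x)
    obtain ⟨Ω₁, _, _, d, -⟩ := exists_geometric (X := (C (ConnectedComponents.mk x)).toScheme) ⟨x, (hCmem _ _).2 rfl⟩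
    obtain ⟨t, rfl⟩ : ∃ t, (P _ d).hom.app Y t = s := ⟨_, inv_hom_apply (P _ d) Y s⟩
    refine (nat_mem_iff (P _ d).hom Y hZ t).trans (Iff.trans ?_ (hDF _ Ω₁ d t.1 t.2))
    refine Iff.trans ?_ (hE _ _)
    have e : pullback.lift t.1 d t.2 ≫ chart hY g _ ≫ pullback.fst hY g = t.1 := by
      rw [chart_fst]; exact pullback.lift_fst _ _ _
    rw [← hsat]
    exact Iff.of_eq (congrArg (· ∈ _) (congrArg (fun u : Spec (CommRingCat.of Ω₁) ⟶ Y.left => u default) e).symm)
  exact (hfib _).symm.trans ((nat_mem_iff φ.hom Y hZ s).trans (hfib s))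

end Groth.L27.PiGen
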