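import Groth.Agent.L27.HomotopySeq.Basic
import Groth.Prelude.Def_PiSp
import Mathlib.AlgebraicGeometry.Group.Abelian
import Mathlib.CategoryTheory.Monoidal.Cartesian.Over
import Mathlib.CategoryTheory.Monoidal.Cartesian.Grp

/-! Multiplication on an abelian variety as a Galois cover. -/

set_option autoImplicit false
set_option linter.style.haveILetI false
set_option backward.isDefEq.respectTransparency.types false

universe u

open CategoryTheory MonoidalCategory CartesianMonoidalCategory MonObj GrpObj AlgebraicGeometry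

noncomputable section

namespace Groth.L27.PiGen

variable {k : Type u} [Field k]

section

variable (A : Over (Spec (CommRingCat.of k))) [GrpObj A] (n : ℤ)

/-- powers are compositions with the power of the identity -/
theorem zpow_eq_comp {T : Over (Spec (CommRingCat.of k))} (δ : T ⟶ A) : δ ^ n = δ ≫ (𝟙 A) ^ n := by
  rw [GrpObj.comp_zpow, Category.comp_id]

/-- torsion points over a connected base are constant -/
theorem exists_torsion_const [IsAlgClosed k] [Etale ((𝟙 A) ^ n).left] (T : Over (Spec (CommRingCat.of k)))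
    [ConnectedSpace T.left] (δ : T ⟶ A) (hδ : δ ^ n = 1) :
    ∃ a : 𝟙_ (Over (Spec (CommRingCat.of k))) ⟶ A, a ^ n = 1 ∧ δ = toUnit T ≫ a := by
  let o : Spec (CommRingCat.of k) ⟶ A.left := (η[A] : 𝟙_ (Over (Spec (CommRingCat.of k))) ⟶ A).left
  let f : A.left ⟶ A.left := ((𝟙 A) ^ n).left
  have hf : f ≫ A.hom = A.hom := Over.w ((𝟙 A) ^ n)
  have ho : o ≫ A.hom = 𝟙 _ := Over.w η[A]
  have h1 : δ.left ≫ f = T.hom ≫ o := by
    have := congrArg (fun m : T ⟶ A => m.left) ((zpow_eq_comp A n δ).symm.trans (hδ.trans Hom.one_def))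
    exact this
  obtain ⟨a', ha', hl⟩ := Groth.L27.HomotopySeq.exists_const (Limits.pullback.snd f o)
    (Limits.pullback.lift δ.left T.hom h1)
  let a : 𝟙_ (Over (Spec (CommRingCat.of k))) ⟶ A := Over.homMk (a' ≫ Limits.pullback.fst f o) (by
    show (a' ≫ Limits.pullback.fst f o) ≫ A.hom = 𝟙 _
    calc (a' ≫ Limits.pullback.fst f o) ≫ A.hom = a' ≫ (Limits.pullback.fst f o ≫ f) ≫ A.hom := by
          rw [Category.assoc, Category.assoc, hf]
      _ = _ := by rw [Limits.pullback.condition, Category.assoc, ho, Category.comp_id, ha'])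
  refine ⟨a, ?_, ?_⟩
  · rw [zpow_eq_comp, Hom.one_def]
    ext
    show (a' ≫ Limits.pullback.fst f o) ≫ f = (toUnit (𝟙_ (Over (Spec (CommRingCat.of k))))).left ≫ o
    rw [Category.assoc, Limits.pullback.condition, reassoc_of% ha', toUnit_unique (toUnit _) (𝟙 _), Over.id_left]
    exact (Category.id_comp o).symm
  · ext
    show δ.left = T.hom ≫ a' ≫ Limits.pullback.fst f o
    have := congrArg (· ≫ Limits.pullback.fst f o) hl
    simp only [Limits.pullback.lift_fst, Limits.pullback.lift_snd, Category.assoc] at this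
    exact this

/-- translation -/
abbrev trans' (a : 𝟙_ (Over (Spec (CommRingCat.of k))) ⟶ A) : A ⟶ A := (𝟙 A) * (toUnit A ≫ a)

theorem comp_trans' {T : Over (Spec (CommRingCat.of k))} (g : T ⟶ A) (a : 𝟙_ (Over (Spec (CommRingCat.of k))) ⟶ A) :
    g ≫ trans' A a = g * (toUnit T ≫ a) := by
  rw [MonObj.comp_mul, Category.comp_id, ← Category.assoc, toUnit_unique (g ≫ toUnit A) (toUnit T)]

theorem trans'_comp [IsCommMonObj A] (a : 𝟙_ (Over (Spec (CommRingCat.of k))) ⟶ A) (ha : a ^ n = 1) :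
    trans' A a ≫ (𝟙 A) ^ n = (𝟙 A) ^ n := by
  letI : CommGroup (A ⟶ A) := Hom.commGroup
  rw [← zpow_eq_comp, trans', mul_zpow, ← GrpObj.comp_zpow, ha, MonObj.comp_one, _root_.mul_one]

theorem trans'_trans' (a : 𝟙_ (Over (Spec (CommRingCat.of k))) ⟶ A) :
    trans' A a ≫ trans' A a⁻¹ = 𝟙 A := by
  rw [comp_trans', trans', _root_.mul_assoc, ← MonObj.comp_mul, _root_.mul_inv_cancel, MonObj.comp_one, _root_.mul_one]

/-- translation by a torsion point as a deck transformation -/
def transAut [IsCommMonObj A] (hF : IsFinite ((𝟙 A) ^ n).left) (hE : Etale ((𝟙 A) ^ n).left)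
    (a : 𝟙_ (Over (Spec (CommRingCat.of k))) ⟶ A) (ha : a ^ n = 1) :
    Aut (MorphismProperty.Over.mk ⊤ ((𝟙 A) ^ n).left ⟨hF, hE⟩ : FEt.Cat A.left) where
  hom := MorphismProperty.Over.homMk (trans' A a).left (congrArg (fun m : A ⟶ A => m.left) (trans'_comp A n a ha))
  inv := MorphismProperty.Over.homMk (trans' A a⁻¹).left
    (congrArg (fun m : A ⟶ A => m.left) (trans'_comp A n a⁻¹ (by rw [inv_zpow, ha, _root_.inv_one])))
  hom_inv_id := MorphismProperty.Over.Hom.ext (congrArg (fun m : A ⟶ A => m.left) (trans'_trans' A a))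
  inv_hom_id := MorphismProperty.Over.Hom.ext (congrArg (fun m : A ⟶ A => m.left)
    (show trans' A a⁻¹ ≫ trans' A a = 𝟙 A by have h := trans'_trans' A a⁻¹; rw [_root_.inv_inv] at h; exact h))

/-- multiplication by an integer with finite etale power map is Galois with translations as group -/
theorem mul_galois [IsAlgClosed k] [IsProper A.hom] [GeometricallyIntegral A.hom]
    (hF : IsFinite ((𝟙 A) ^ n).left) (hE : Etale ((𝟙 A) ^ n).left) :
      PiSp.IsGaloisCover (MorphismProperty.Over.mk ⊤ ((𝟙 A) ^ n).left ⟨hF, hE⟩ : FEt.Cat A.left) ∧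
      (∀ θ : Aut (MorphismProperty.Over.mk ⊤ ((𝟙 A) ^ n).left ⟨hF, hE⟩ : FEt.Cat A.left),
        ∃! a : 𝟙_ (Over (Spec (CommRingCat.of k))) ⟶ A, a ^ n = 1 ∧
          θ.hom.left = ((𝟙 A) * (toUnit A ≫ a)).left) ∧
      (∀ a : 𝟙_ (Over (Spec (CommRingCat.of k))) ⟶ A, a ^ n = 1 →
        ∃ θ : Aut (MorphismProperty.Over.mk ⊤ ((𝟙 A) ^ n).left ⟨hF, hE⟩ : FEt.Cat A.left),
          θ.hom.left = ((𝟙 A) * (toUnit A ≫ a)).left) := by
  haveI : IsCommMonObj A := isCommMonObj_of_isProper_of_geometricallyIntegral A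
  haveI : IsIntegral A.left := GeometricallyIntegral.isIntegral_of_subsingleton A.hom
  haveI := hE
  let f : A.left ⟶ A.left := ((𝟙 A) ^ n).left
  have hf : f ≫ A.hom = A.hom := Over.w ((𝟙 A) ^ n)
  refine ⟨⟨inferInstanceAs (ConnectedSpace A.left), fun Ω _ _ ξ s t => ?_⟩, fun θ => ?_,
    fun a ha => ⟨transAut A n hF hE a ha, by rfl⟩⟩
  · let T : Over (Spec (CommRingCat.of k)) := Over.mk (ξ ≫ A.hom)
    let s0 : Spec (CommRingCat.of Ω) ⟶ A.left := s.1
    let t0 : Spec (CommRingCat.of Ω) ⟶ A.left := t.1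
    have hs : s0 ≫ f = ξ := s.2
    have ht : t0 ≫ f = ξ := t.2
    let s' : T ⟶ A := Over.homMk s0 (by show s0 ≫ A.hom = ξ ≫ A.hom; rw [← hs, Category.assoc, hf])
    let t' : T ⟶ A := Over.homMk t0 (by show t0 ≫ A.hom = ξ ≫ A.hom; rw [← ht, Category.assoc, hf])
    have hst : s' ^ n = t' ^ n := by
      exact (zpow_eq_comp A n s').trans ((Over.OverMorphism.ext (hs.trans ht.symm)).trans (zpow_eq_comp A n t').symm)
    letI : CommGroup (T ⟶ A) := Hom.commGroup
    haveI : ConnectedSpace T.left := inferInstanceAs (ConnectedSpace ↥(Spec (CommRingCat.of Ω)))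
    obtain ⟨a, ha, hd⟩ := exists_torsion_const A n T (t' / s') (by rw [div_zpow, hst, div_self'])
    refine ⟨transAut A n hF hE a ha, Subtype.ext ?_⟩
    have : s' ≫ trans' A a = t' := by rw [comp_trans', ← hd, mul_div_cancel]
    exact congrArg (fun m : T ⟶ A => m.left) this
  · let θ' : A ⟶ A := Over.homMk θ.hom.left (by
      have hw : θ.hom.left ≫ f = f := MorphismProperty.Over.w θ.hom
      show θ.hom.left ≫ A.hom = A.hom
      calc θ.hom.left ≫ A.hom = (θ.hom.left ≫ f) ≫ A.hom :=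
            ((congrArg (θ.hom.left ≫ ·) hf).symm.trans (Category.assoc _ _ _).symm)
        _ = A.hom := (congrArg (· ≫ A.hom) hw).trans hf)
    letI : CommGroup (A ⟶ A) := Hom.commGroup
    have hθ : θ' ^ n = (𝟙 A) ^ n := by
      rw [zpow_eq_comp]; ext; exact MorphismProperty.Over.w θ.hom
    obtain ⟨a, ha, hd⟩ := exists_torsion_const A n A (θ' / 𝟙 A) (by rw [div_zpow, hθ, div_self'])
    refine ⟨a, ⟨ha, congrArg (fun m : A ⟶ A => m.left) (show θ' = 𝟙 A * (toUnit A ≫ a) by rw [← hd, mul_div_cancel])⟩, ?_⟩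
    rintro b ⟨-, hb⟩
    have hb' : θ' = 𝟙 A * (toUnit A ≫ b) := Over.OverMorphism.ext hb
    have e : toUnit A ≫ b = toUnit A ≫ a := by rw [← hd, hb', mul_div_cancel_left]
    have := congrArg (η[A] ≫ ·) e
    rwa [← Category.assoc, ← Category.assoc, toUnit_unique (η[A] ≫ toUnit A) (𝟙 _), Category.id_comp,
      Category.id_comp] at this

end

end Groth.L27.PiGen
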